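import Groth.Agent.HenselDesc.Local
import Groth.Agent.CommAlgDim.Regular
import Groth.Agent.TransLib.Step

/-!
# Cotangent spaces along flat local maps with regular closed fibre
-/

set_option backward.isDefEq.respectTransparency false
set_option backward.isDefEq.respectTransparency.types false

universe u

open IsLocalRing

namespace FlatCotLib

theorem spanFinrank_eq_add_aux (A : Type u) [CommRing A] [IsLocalRing A] [IsNoetherianRing A] :
    ∀ (d : ℕ) (B : Type u) [CommRing B] [IsLocalRing B] [IsNoetherianRing B] [Algebra A B]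
      [IsLocalHom (algebraMap A B)] [Module.Flat A B]
      [IsRegularLocalRing (B ⧸ (maximalIdeal A).map (algebraMap A B))],
      (maximalIdeal (B ⧸ (maximalIdeal A).map (algebraMap A B))).spanFinrank = d →
        (maximalIdeal B).spanFinrank = (maximalIdeal A).spanFinrank + d
  | 0, B, _, _, _, _, _, _, _, hd => by
    set I := (maximalIdeal A).map (algebraMap A B)
    have h0 := (Submodule.spanFinrank_eq_zero_iff_eq_bot (IsNoetherian.noetherian _)).1 hd
    have hI : I = maximalIdeal B := by
      refine le_antisymm (Ideal.map_le_iff_le_comap.2 fun a ha => map_nonunit (algebraMap A B) a ha) fun b hb => ?_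
      have hb' : Ideal.Quotient.mk I b ∈ maximalIdeal (B ⧸ I) := by
        rw [← IsLocalRing.map_maximalIdeal_of_surjective _ (Ideal.Quotient.mk_surjective (I := I))]
        exact Ideal.mem_map_of_mem _ hb
      rw [h0, Ideal.mem_bot, Ideal.Quotient.eq_zero_iff_mem] at hb'
      exact hb'
    rw [HenselDesc.spanFinrank_eq_of_flat_unramified' A B hI, add_zero]
  | d + 1, B, _, _, _, _, _, _, _, hd => by
    set I := (maximalIdeal A).map (algebraMap A B) with hIdef
    have hne : maximalIdeal (B ⧸ I) ≠ ⊥ := fun h => by rw [h, Submodule.spanFinrank_bot] at hd; omega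
    obtain ⟨x, hx, hx2, -⟩ := CommAlgDim.exists_mem_notMem_sq (R := B ⧸ I) (S := ∅) Set.finite_empty
      (by simp) (by simp) hne
    have hmap : (maximalIdeal B).map (Ideal.Quotient.mk I) = maximalIdeal (B ⧸ I) :=
      IsLocalRing.map_maximalIdeal_of_surjective _ Ideal.Quotient.mk_surjective
    obtain ⟨y, hy, rfl⟩ := (Ideal.mem_map_iff_of_surjective _ Ideal.Quotient.mk_surjective).1 (hmap.ge hx)
    have hy2 : y ∉ maximalIdeal B ^ 2 := fun h => hx2 (by
      rw [← hmap, ← Ideal.map_pow]; exact Ideal.mem_map_of_mem _ h)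
    have hxreg : IsSMulRegular (B ⧸ I) (Ideal.Quotient.mk I y) :=
      CommAlgDim.isSMulRegular_of_ne_zero fun h => hx2 (by rw [h]; exact zero_mem _)
    have hyreg : IsSMulRegular (B ⧸ (I • (⊤ : Submodule B B))) y := by
      have he : (I • (⊤ : Submodule B B)) = I := by rw [smul_eq_mul, Ideal.mul_top]
      rw [LinearEquiv.isSMulRegular_congr (Submodule.quotEquivOfEq _ _ he)]
      intro u v huv
      exact hxreg (show Ideal.Quotient.mk I y * u = Ideal.Quotient.mk I y * v from huv)
    obtain ⟨-, hfl⟩ := TransLib.regular_and_flat (A := A) (B := B) B [y]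
      ((RingTheory.Sequence.isWeaklyRegular_cons_iff _ _ _).2 ⟨hyreg, RingTheory.Sequence.IsWeaklyRegular.nil _ _⟩)
    have hflat : Module.Flat A (B ⧸ Ideal.span {y}) := by
      haveI := hfl 1 (by simp)
      have he : (Ideal.ofList (List.take 1 [y]) • (⊤ : Submodule B B)) = Ideal.span {y} := by
        rw [List.take_of_length_le (by simp), Ideal.ofList_singleton, smul_eq_mul, Ideal.mul_top]
      exact Module.Flat.of_linearEquiv ((Submodule.quotEquivOfEq _ _ he).symm.restrictScalars A)
    let B' := B ⧸ Ideal.span {y}
    haveI := CommAlgDim.nontrivial_quotient (CommAlgDim.singleton_ne_top hy)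
    haveI : IsLocalHom (algebraMap A B') := by
      refine ((local_hom_TFAE _).out 2 0).1 ?_
      rw [IsScalarTower.algebraMap_eq A B B', ← Ideal.map_map,
        ← IsLocalRing.map_maximalIdeal_of_surjective (algebraMap B B') Ideal.Quotient.mk_surjective]
      exact Ideal.map_mono (Ideal.map_le_iff_le_comap.2 fun a ha => map_nonunit (algebraMap A B) a ha)
    have hI' : (maximalIdeal A).map (algebraMap A B') = I.map (Ideal.Quotient.mk (Ideal.span {y})) := by
      rw [hIdef, Ideal.map_map]; rfl
    have hspan : (Ideal.span {y}).map (Ideal.Quotient.mk I) = Ideal.span {Ideal.Quotient.mk I y} := by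
      rw [Ideal.map_span, Set.image_singleton]
    let e : (B' ⧸ (maximalIdeal A).map (algebraMap A B')) ≃+* (B ⧸ I) ⧸ Ideal.span {Ideal.Quotient.mk I y} :=
      (Ideal.quotEquivOfEq hI').trans
        ((DoubleQuot.quotQuotEquivComm (Ideal.span {y}) I).trans (Ideal.quotEquivOfEq hspan))
    haveI := CommAlgDim.nontrivial_quotient (CommAlgDim.singleton_ne_top hx)
    haveI := CommAlgDim.isRegularLocalRing_quotient_singleton hx hx2
    haveI hregB' : IsRegularLocalRing (B' ⧸ (maximalIdeal A).map (algebraMap A B')) :=
      IsRegularLocalRing.of_ringEquiv e.symm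
    have hd' : (maximalIdeal (B' ⧸ (maximalIdeal A).map (algebraMap A B'))).spanFinrank = d := by
      have h1 := IsRegularLocalRing.spanFinrank_maximalIdeal (R := B' ⧸ (maximalIdeal A).map (algebraMap A B'))
      rw [ringKrullDim_eq_of_ringEquiv e, ← IsRegularLocalRing.spanFinrank_maximalIdeal] at h1
      have h2 := CommAlgDim.spanFinrank_maximalIdeal_quotient_singleton hx hx2
      have hd2 : (maximalIdeal (B ⧸ I)).spanFinrank = d + 1 := hd
      have h1' := Nat.cast_injective h1
      rw [h1']
      omega
    have hIH := spanFinrank_eq_add_aux A d B' hd'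
    have h3 := CommAlgDim.spanFinrank_maximalIdeal_quotient_singleton hy hy2
    change (maximalIdeal B').spanFinrank + 1 = _ at h3
    omega

end FlatCotLib
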